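import Cfsg.Agent.Lib.Helper3.Co1.Eval

/-!
# Explicit generators of `Co0`

Seven automorphisms of the Leech lattice, products of monomial maps and the map `ξ`: `a, b, c, t, d` generate the
stabiliser `PSU₆(2)` of the vectors `U = (4, 4, 0²²)` and `W = (0, -4, -4, 0²¹)`, `g` lies in the stabiliser `Co₂` of `U`
and `s` is a monomial involution interchanging `U` and `W`.  Generated by `tools/co1/gen_gens.py`.
-/

set_option autoImplicit false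

namespace Cfsg.Agent.Lib.Helper3.Co1Gens

open Cfsg
open Cfsg.Agent.Lib.Helper3.Golay
open Cfsg.Agent.Lib.Helper14.LeechXi
open Cfsg.Agent.Lib.Helper14.LeechMono
open Cfsg.Agent.Lib.Helper4.McL
open Cfsg.Agent.Lib.Helper3.Co1Eval

/-- the map `ξ` as an element of `Co0` -/
noncomputable def xiC : ↥Co0 := ⟨xiPerm, xiPerm_mem⟩

theorem real_xiC : Real xiC.1 [.x] := real_xi

def TA0 : List ℕ := [12, 9, 2, 22, 0, 18, 10, 7, 8, 3, 5, 20, 23, 16, 19, 4, 1, 11, 17, 15, 6, 13, 21, 14]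
def TA0i : List ℕ := [4, 16, 2, 9, 15, 10, 20, 7, 8, 1, 6, 17, 0, 21, 23, 19, 13, 18, 5, 14, 11, 22, 3, 12]
def cA0 : ℕ := 6213200
theorem hTA0 : okInv TA0 TA0i = true := by decide
theorem hTA0' : okInv TA0i TA0 = true := by decide
theorem hTA0c : codeOK TA0 = true := by decide
theorem hcA0 : cA0 < 2 ^ 24 := by decide
theorem hcA0c : codeMask (cA0 % 4096) = cA0 := by decide
/-- a monomial factor -/
noncomputable def mA0 : ↥Co0 := ⟨monoT TA0 TA0i hTA0 hTA0' hTA0c cA0 hcA0 hcA0c, monoT_mem _ _ _ _ _ _ _ _⟩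
theorem real_mA0 : Real mA0.1 [.m TA0i cA0] := real_monoT TA0 TA0i hTA0 hTA0' hTA0c cA0 hcA0 hcA0c

def TA1 : List ℕ := [18, 8, 16, 2, 21, 10, 6, 1, 17, 12, 4, 15, 7, 9, 5, 13, 23, 19, 0, 3, 22, 20, 14, 11]
def TA1i : List ℕ := [18, 7, 3, 19, 10, 14, 6, 12, 1, 13, 5, 23, 9, 15, 22, 11, 2, 8, 0, 17, 21, 4, 20, 16]
def cA1 : ℕ := 563843
theorem hTA1 : okInv TA1 TA1i = true := by decide
theorem hTA1' : okInv TA1i TA1 = true := by decide
theorem hTA1c : codeOK TA1 = true := by decide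
theorem hcA1 : cA1 < 2 ^ 24 := by decide
theorem hcA1c : codeMask (cA1 % 4096) = cA1 := by decide
/-- a monomial factor -/
noncomputable def mA1 : ↥Co0 := ⟨monoT TA1 TA1i hTA1 hTA1' hTA1c cA1 hcA1 hcA1c, monoT_mem _ _ _ _ _ _ _ _⟩
theorem real_mA1 : Real mA1.1 [.m TA1i cA1] := real_monoT TA1 TA1i hTA1 hTA1' hTA1c cA1 hcA1 hcA1c

def TA2 : List ℕ := [10, 9, 16, 17, 3, 14, 5, 11, 0, 4, 18, 6, 22, 8, 13, 12, 20, 1, 21, 7, 2, 15, 19, 23]
def TA2i : List ℕ := [8, 17, 20, 4, 9, 6, 11, 19, 13, 1, 0, 7, 15, 14, 5, 21, 2, 3, 10, 22, 16, 18, 12, 23]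
def cA2 : ℕ := 15233482
theorem hTA2 : okInv TA2 TA2i = true := by decide
theorem hTA2' : okInv TA2i TA2 = true := by decide
theorem hTA2c : codeOK TA2 = true := by decide
theorem hcA2 : cA2 < 2 ^ 24 := by decide
theorem hcA2c : codeMask (cA2 % 4096) = cA2 := by decide
/-- a monomial factor -/
noncomputable def mA2 : ↥Co0 := ⟨monoT TA2 TA2i hTA2 hTA2' hTA2c cA2 hcA2 hcA2c, monoT_mem _ _ _ _ _ _ _ _⟩
theorem real_mA2 : Real mA2.1 [.m TA2i cA2] := real_monoT TA2 TA2i hTA2 hTA2' hTA2c cA2 hcA2 hcA2c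

/-- the element `a` -/
noncomputable def gA : ↥Co0 := mA0 * xiC * mA1 * xiC * mA2
/-- its primitives -/
def prA : List Prim := [.m TA0i cA0, .x, .m TA1i cA1, .x, .m TA2i cA2]
theorem real_gA : Real gA.1 prA := ((((real_mA0).mul real_xiC).mul real_mA1).mul real_xiC).mul real_mA2

def TB0 : List ℕ := [21, 14, 0, 15, 10, 20, 12, 2, 7, 13, 6, 11, 3, 4, 19, 17, 23, 5, 8, 9, 22, 16, 18, 1]
def TB0i : List ℕ := [2, 23, 7, 12, 13, 17, 10, 8, 18, 19, 4, 11, 6, 9, 1, 3, 21, 15, 22, 14, 5, 0, 20, 16]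
def cB0 : ℕ := 5446862
theorem hTB0 : okInv TB0 TB0i = true := by decide
theorem hTB0' : okInv TB0i TB0 = true := by decide
theorem hTB0c : codeOK TB0 = true := by decide
theorem hcB0 : cB0 < 2 ^ 24 := by decide
theorem hcB0c : codeMask (cB0 % 4096) = cB0 := by decide
/-- a monomial factor -/
noncomputable def mB0 : ↥Co0 := ⟨monoT TB0 TB0i hTB0 hTB0' hTB0c cB0 hcB0 hcB0c, monoT_mem _ _ _ _ _ _ _ _⟩
theorem real_mB0 : Real mB0.1 [.m TB0i cB0] := real_monoT TB0 TB0i hTB0 hTB0' hTB0c cB0 hcB0 hcB0c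

def TB1 : List ℕ := [22, 16, 1, 7, 2, 18, 6, 10, 21, 12, 19, 8, 9, 4, 20, 14, 23, 17, 3, 5, 15, 11, 0, 13]
def TB1i : List ℕ := [22, 2, 4, 18, 13, 19, 6, 3, 11, 12, 7, 21, 9, 23, 15, 20, 1, 17, 5, 10, 14, 8, 0, 16]
def cB1 : ℕ := 7402519
theorem hTB1 : okInv TB1 TB1i = true := by decide
theorem hTB1' : okInv TB1i TB1 = true := by decide
theorem hTB1c : codeOK TB1 = true := by decide
theorem hcB1 : cB1 < 2 ^ 24 := by decide
theorem hcB1c : codeMask (cB1 % 4096) = cB1 := by decide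
/-- a monomial factor -/
noncomputable def mB1 : ↥Co0 := ⟨monoT TB1 TB1i hTB1 hTB1' hTB1c cB1 hcB1 hcB1c, monoT_mem _ _ _ _ _ _ _ _⟩
theorem real_mB1 : Real mB1.1 [.m TB1i cB1] := real_monoT TB1 TB1i hTB1 hTB1' hTB1c cB1 hcB1 hcB1c

def TB2 : List ℕ := [22, 13, 5, 10, 17, 4, 6, 21, 20, 16, 7, 1, 9, 0, 19, 8, 18, 12, 14, 3, 15, 23, 11, 2]
def TB2i : List ℕ := [13, 11, 23, 19, 5, 2, 6, 10, 15, 12, 3, 22, 17, 1, 18, 20, 9, 4, 16, 14, 8, 7, 0, 21]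
def cB2 : ℕ := 14460737
theorem hTB2 : okInv TB2 TB2i = true := by decide
theorem hTB2' : okInv TB2i TB2 = true := by decide
theorem hTB2c : codeOK TB2 = true := by decide
theorem hcB2 : cB2 < 2 ^ 24 := by decide
theorem hcB2c : codeMask (cB2 % 4096) = cB2 := by decide
/-- a monomial factor -/
noncomputable def mB2 : ↥Co0 := ⟨monoT TB2 TB2i hTB2 hTB2' hTB2c cB2 hcB2 hcB2c, monoT_mem _ _ _ _ _ _ _ _⟩
theorem real_mB2 : Real mB2.1 [.m TB2i cB2] := real_monoT TB2 TB2i hTB2 hTB2' hTB2c cB2 hcB2 hcB2c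

/-- the element `b` -/
noncomputable def gB : ↥Co0 := mB0 * xiC * mB1 * xiC * mB2
/-- its primitives -/
def prB : List Prim := [.m TB0i cB0, .x, .m TB1i cB1, .x, .m TB2i cB2]
theorem real_gB : Real gB.1 prB := ((((real_mB0).mul real_xiC).mul real_mB1).mul real_xiC).mul real_mB2

def TC0 : List ℕ := [5, 19, 3, 12, 17, 8, 21, 4, 7, 2, 15, 0, 1, 23, 6, 18, 10, 16, 22, 9, 14, 20, 11, 13]
def TC0i : List ℕ := [11, 12, 9, 2, 7, 0, 14, 8, 5, 19, 16, 22, 3, 23, 20, 10, 17, 4, 15, 1, 21, 6, 18, 13]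
def cC0 : ℕ := 9174145
theorem hTC0 : okInv TC0 TC0i = true := by decide
theorem hTC0' : okInv TC0i TC0 = true := by decide
theorem hTC0c : codeOK TC0 = true := by decide
theorem hcC0 : cC0 < 2 ^ 24 := by decide
theorem hcC0c : codeMask (cC0 % 4096) = cC0 := by decide
/-- a monomial factor -/
noncomputable def mC0 : ↥Co0 := ⟨monoT TC0 TC0i hTC0 hTC0' hTC0c cC0 hcC0 hcC0c, monoT_mem _ _ _ _ _ _ _ _⟩
theorem real_mC0 : Real mC0.1 [.m TC0i cC0] := real_monoT TC0 TC0i hTC0 hTC0' hTC0c cC0 hcC0 hcC0c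

def TC1 : List ℕ := [11, 12, 18, 2, 4, 14, 21, 5, 1, 20, 7, 17, 15, 13, 9, 0, 8, 19, 6, 23, 3, 10, 16, 22]
def TC1i : List ℕ := [15, 8, 3, 20, 4, 7, 18, 10, 16, 14, 21, 0, 1, 13, 5, 12, 22, 11, 2, 17, 9, 6, 23, 19]
def cC1 : ℕ := 14282588
theorem hTC1 : okInv TC1 TC1i = true := by decide
theorem hTC1' : okInv TC1i TC1 = true := by decide
theorem hTC1c : codeOK TC1 = true := by decide
theorem hcC1 : cC1 < 2 ^ 24 := by decide
theorem hcC1c : codeMask (cC1 % 4096) = cC1 := by decide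
/-- a monomial factor -/
noncomputable def mC1 : ↥Co0 := ⟨monoT TC1 TC1i hTC1 hTC1' hTC1c cC1 hcC1 hcC1c, monoT_mem _ _ _ _ _ _ _ _⟩
theorem real_mC1 : Real mC1.1 [.m TC1i cC1] := real_monoT TC1 TC1i hTC1 hTC1' hTC1c cC1 hcC1 hcC1c

def TC2 : List ℕ := [23, 2, 8, 6, 15, 12, 9, 22, 18, 5, 0, 16, 17, 14, 7, 20, 21, 4, 3, 10, 19, 11, 1, 13]
def TC2i : List ℕ := [10, 22, 1, 18, 17, 9, 3, 14, 2, 6, 19, 21, 5, 23, 13, 4, 11, 12, 8, 20, 15, 16, 7, 0]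
def cC2 : ℕ := 2675464
theorem hTC2 : okInv TC2 TC2i = true := by decide
theorem hTC2' : okInv TC2i TC2 = true := by decide
theorem hTC2c : codeOK TC2 = true := by decide
theorem hcC2 : cC2 < 2 ^ 24 := by decide
theorem hcC2c : codeMask (cC2 % 4096) = cC2 := by decide
/-- a monomial factor -/
noncomputable def mC2 : ↥Co0 := ⟨monoT TC2 TC2i hTC2 hTC2' hTC2c cC2 hcC2 hcC2c, monoT_mem _ _ _ _ _ _ _ _⟩
theorem real_mC2 : Real mC2.1 [.m TC2i cC2] := real_monoT TC2 TC2i hTC2 hTC2' hTC2c cC2 hcC2 hcC2c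

/-- the element `c` -/
noncomputable def gC : ↥Co0 := mC0 * xiC * mC1 * xiC * mC2
/-- its primitives -/
def prC : List Prim := [.m TC0i cC0, .x, .m TC1i cC1, .x, .m TC2i cC2]
theorem real_gC : Real gC.1 prC := ((((real_mC0).mul real_xiC).mul real_mC1).mul real_xiC).mul real_mC2

def TT0 : List ℕ := [0, 23, 1, 7, 4, 17, 18, 5, 21, 9, 8, 3, 15, 13, 10, 19, 2, 11, 12, 6, 14, 20, 16, 22]
def TT0i : List ℕ := [0, 2, 16, 11, 4, 7, 19, 3, 10, 9, 14, 17, 18, 13, 20, 12, 22, 5, 6, 15, 21, 8, 23, 1]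
def cT0 : ℕ := 4562408
theorem hTT0 : okInv TT0 TT0i = true := by decide
theorem hTT0' : okInv TT0i TT0 = true := by decide
theorem hTT0c : codeOK TT0 = true := by decide
theorem hcT0 : cT0 < 2 ^ 24 := by decide
theorem hcT0c : codeMask (cT0 % 4096) = cT0 := by decide
/-- a monomial factor -/
noncomputable def mT0 : ↥Co0 := ⟨monoT TT0 TT0i hTT0 hTT0' hTT0c cT0 hcT0 hcT0c, monoT_mem _ _ _ _ _ _ _ _⟩
theorem real_mT0 : Real mT0.1 [.m TT0i cT0] := real_monoT TT0 TT0i hTT0 hTT0' hTT0c cT0 hcT0 hcT0c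

def TT1 : List ℕ := [23, 1, 13, 18, 22, 7, 19, 3, 20, 15, 14, 17, 11, 16, 10, 8, 4, 5, 6, 9, 21, 12, 0, 2]
def TT1i : List ℕ := [22, 1, 23, 7, 16, 17, 18, 5, 15, 19, 14, 12, 21, 2, 10, 9, 13, 11, 3, 6, 8, 20, 4, 0]
def cT1 : ℕ := 3410225
theorem hTT1 : okInv TT1 TT1i = true := by decide
theorem hTT1' : okInv TT1i TT1 = true := by decide
theorem hTT1c : codeOK TT1 = true := by decide
theorem hcT1 : cT1 < 2 ^ 24 := by decide
theorem hcT1c : codeMask (cT1 % 4096) = cT1 := by decide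
/-- a monomial factor -/
noncomputable def mT1 : ↥Co0 := ⟨monoT TT1 TT1i hTT1 hTT1' hTT1c cT1 hcT1 hcT1c, monoT_mem _ _ _ _ _ _ _ _⟩
theorem real_mT1 : Real mT1.1 [.m TT1i cT1] := real_monoT TT1 TT1i hTT1 hTT1' hTT1c cT1 hcT1 hcT1c

/-- the element `t` -/
noncomputable def gT : ↥Co0 := mT0 * xiC * mT1
/-- its primitives -/
def prT : List Prim := [.m TT0i cT0, .x, .m TT1i cT1]
theorem real_gT : Real gT.1 prT := ((real_mT0).mul real_xiC).mul real_mT1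

def TD0 : List ℕ := [20, 10, 9, 22, 4, 3, 17, 13, 23, 6, 16, 1, 15, 5, 21, 14, 7, 12, 0, 18, 11, 19, 8, 2]
def TD0i : List ℕ := [18, 11, 23, 5, 4, 13, 9, 16, 22, 2, 1, 20, 17, 7, 15, 12, 10, 6, 19, 21, 0, 14, 3, 8]
def cD0 : ℕ := 5648273
theorem hTD0 : okInv TD0 TD0i = true := by decide
theorem hTD0' : okInv TD0i TD0 = true := by decide
theorem hTD0c : codeOK TD0 = true := by decide
theorem hcD0 : cD0 < 2 ^ 24 := by decide
theorem hcD0c : codeMask (cD0 % 4096) = cD0 := by decide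
/-- a monomial factor -/
noncomputable def mD0 : ↥Co0 := ⟨monoT TD0 TD0i hTD0 hTD0' hTD0c cD0 hcD0 hcD0c, monoT_mem _ _ _ _ _ _ _ _⟩
theorem real_mD0 : Real mD0.1 [.m TD0i cD0] := real_monoT TD0 TD0i hTD0 hTD0' hTD0c cD0 hcD0 hcD0c

def TD1 : List ℕ := [18, 11, 0, 3, 4, 13, 15, 16, 22, 1, 2, 10, 14, 21, 9, 12, 20, 19, 6, 7, 23, 17, 5, 8]
def TD1i : List ℕ := [2, 9, 10, 3, 4, 22, 18, 19, 23, 14, 11, 1, 15, 5, 12, 6, 7, 21, 0, 17, 16, 13, 8, 20]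
def cD1 : ℕ := 2892897
theorem hTD1 : okInv TD1 TD1i = true := by decide
theorem hTD1' : okInv TD1i TD1 = true := by decide
theorem hTD1c : codeOK TD1 = true := by decide
theorem hcD1 : cD1 < 2 ^ 24 := by decide
theorem hcD1c : codeMask (cD1 % 4096) = cD1 := by decide
/-- a monomial factor -/
noncomputable def mD1 : ↥Co0 := ⟨monoT TD1 TD1i hTD1 hTD1' hTD1c cD1 hcD1 hcD1c, monoT_mem _ _ _ _ _ _ _ _⟩
theorem real_mD1 : Real mD1.1 [.m TD1i cD1] := real_monoT TD1 TD1i hTD1 hTD1' hTD1c cD1 hcD1 hcD1c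

/-- the element `d` -/
noncomputable def gD : ↥Co0 := mD0 * xiC * mD1
/-- its primitives -/
def prD : List Prim := [.m TD0i cD0, .x, .m TD1i cD1]
theorem real_gD : Real gD.1 prD := ((real_mD0).mul real_xiC).mul real_mD1

def TG0 : List ℕ := [23, 6, 11, 12, 1, 22, 10, 5, 18, 8, 7, 17, 3, 15, 19, 20, 14, 13, 21, 4, 9, 2, 16, 0]
def TG0i : List ℕ := [23, 4, 21, 12, 19, 7, 1, 10, 9, 20, 6, 2, 3, 17, 16, 13, 22, 11, 8, 14, 15, 18, 5, 0]
def cG0 : ℕ := 7710869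
theorem hTG0 : okInv TG0 TG0i = true := by decide
theorem hTG0' : okInv TG0i TG0 = true := by decide
theorem hTG0c : codeOK TG0 = true := by decide
theorem hcG0 : cG0 < 2 ^ 24 := by decide
theorem hcG0c : codeMask (cG0 % 4096) = cG0 := by decide
/-- a monomial factor -/
noncomputable def mG0 : ↥Co0 := ⟨monoT TG0 TG0i hTG0 hTG0' hTG0c cG0 hcG0 hcG0c, monoT_mem _ _ _ _ _ _ _ _⟩
theorem real_mG0 : Real mG0.1 [.m TG0i cG0] := real_monoT TG0 TG0i hTG0 hTG0' hTG0c cG0 hcG0 hcG0c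

def TG1 : List ℕ := [0, 23, 2, 8, 14, 5, 6, 7, 18, 17, 16, 22, 10, 4, 13, 11, 12, 20, 3, 1, 9, 21, 15, 19]
def TG1i : List ℕ := [0, 19, 2, 18, 13, 5, 6, 7, 3, 20, 12, 15, 16, 14, 4, 22, 10, 9, 8, 23, 17, 21, 11, 1]
def cG1 : ℕ := 4367374
theorem hTG1 : okInv TG1 TG1i = true := by decide
theorem hTG1' : okInv TG1i TG1 = true := by decide
theorem hTG1c : codeOK TG1 = true := by decide
theorem hcG1 : cG1 < 2 ^ 24 := by decide
theorem hcG1c : codeMask (cG1 % 4096) = cG1 := by decide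
/-- a monomial factor -/
noncomputable def mG1 : ↥Co0 := ⟨monoT TG1 TG1i hTG1 hTG1' hTG1c cG1 hcG1 hcG1c, monoT_mem _ _ _ _ _ _ _ _⟩
theorem real_mG1 : Real mG1.1 [.m TG1i cG1] := real_monoT TG1 TG1i hTG1 hTG1' hTG1c cG1 hcG1 hcG1c

def TG2 : List ℕ := [14, 17, 2, 21, 0, 22, 6, 8, 7, 4, 19, 16, 18, 3, 12, 20, 1, 15, 9, 10, 11, 13, 23, 5]
def TG2i : List ℕ := [4, 16, 2, 13, 9, 23, 6, 8, 7, 18, 19, 20, 14, 21, 0, 17, 11, 1, 12, 10, 15, 3, 5, 22]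
def cG2 : ℕ := 555160
theorem hTG2 : okInv TG2 TG2i = true := by decide
theorem hTG2' : okInv TG2i TG2 = true := by decide
theorem hTG2c : codeOK TG2 = true := by decide
theorem hcG2 : cG2 < 2 ^ 24 := by decide
theorem hcG2c : codeMask (cG2 % 4096) = cG2 := by decide
/-- a monomial factor -/
noncomputable def mG2 : ↥Co0 := ⟨monoT TG2 TG2i hTG2 hTG2' hTG2c cG2 hcG2 hcG2c, monoT_mem _ _ _ _ _ _ _ _⟩
theorem real_mG2 : Real mG2.1 [.m TG2i cG2] := real_monoT TG2 TG2i hTG2 hTG2' hTG2c cG2 hcG2 hcG2c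

def TG3 : List ℕ := [4, 5, 2, 1, 12, 15, 3, 23, 6, 11, 21, 13, 20, 0, 14, 22, 17, 10, 18, 7, 9, 19, 8, 16]
def TG3i : List ℕ := [13, 3, 2, 6, 0, 1, 8, 19, 22, 20, 17, 9, 4, 11, 14, 5, 23, 16, 18, 21, 12, 10, 15, 7]
def cG3 : ℕ := 2220640
theorem hTG3 : okInv TG3 TG3i = true := by decide
theorem hTG3' : okInv TG3i TG3 = true := by decide
theorem hTG3c : codeOK TG3 = true := by decide
theorem hcG3 : cG3 < 2 ^ 24 := by decide
theorem hcG3c : codeMask (cG3 % 4096) = cG3 := by decide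
/-- a monomial factor -/
noncomputable def mG3 : ↥Co0 := ⟨monoT TG3 TG3i hTG3 hTG3' hTG3c cG3 hcG3 hcG3c, monoT_mem _ _ _ _ _ _ _ _⟩
theorem real_mG3 : Real mG3.1 [.m TG3i cG3] := real_monoT TG3 TG3i hTG3 hTG3' hTG3c cG3 hcG3 hcG3c

/-- the element `g` -/
noncomputable def gG : ↥Co0 := mG0 * xiC * mG1 * xiC * mG2 * xiC * mG3
/-- its primitives -/
def prG : List Prim := [.m TG0i cG0, .x, .m TG1i cG1, .x, .m TG2i cG2, .x, .m TG3i cG3]
theorem real_gG : Real gG.1 prG := ((((((real_mG0).mul real_xiC).mul real_mG1).mul real_xiC).mul real_mG2).mul real_xiC).mul real_mG3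

def TS0 : List ℕ := [0, 23, 5, 3, 20, 2, 16, 10, 9, 8, 7, 11, 21, 18, 14, 15, 6, 17, 13, 19, 4, 12, 22, 1]
def TS0i : List ℕ := [0, 23, 5, 3, 20, 2, 16, 10, 9, 8, 7, 11, 21, 18, 14, 15, 6, 17, 13, 19, 4, 12, 22, 1]
def cS0 : ℕ := 15392651
theorem hTS0 : okInv TS0 TS0i = true := by decide
theorem hTS0' : okInv TS0i TS0 = true := by decide
theorem hTS0c : codeOK TS0 = true := by decide
theorem hcS0 : cS0 < 2 ^ 24 := by decide
theorem hcS0c : codeMask (cS0 % 4096) = cS0 := by decide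
/-- a monomial factor -/
noncomputable def mS0 : ↥Co0 := ⟨monoT TS0 TS0i hTS0 hTS0' hTS0c cS0 hcS0 hcS0c, monoT_mem _ _ _ _ _ _ _ _⟩
theorem real_mS0 : Real mS0.1 [.m TS0i cS0] := real_monoT TS0 TS0i hTS0 hTS0' hTS0c cS0 hcS0 hcS0c

/-- the element `s` -/
noncomputable def gS : ↥Co0 := mS0
/-- its primitives -/
def prS : List Prim := [.m TS0i cS0]
theorem real_gS : Real gS.1 prS := real_mS0

def TBi0 : List ℕ := [13, 11, 23, 19, 5, 2, 6, 10, 15, 12, 3, 22, 17, 1, 18, 20, 9, 4, 16, 14, 8, 7, 0, 21]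
def TBi0i : List ℕ := [22, 13, 5, 10, 17, 4, 6, 21, 20, 16, 7, 1, 9, 0, 19, 8, 18, 12, 14, 3, 15, 23, 11, 2]
def cBi0 : ℕ := 3273035
theorem hTBi0 : okInv TBi0 TBi0i = true := by decide
theorem hTBi0' : okInv TBi0i TBi0 = true := by decide
theorem hTBi0c : codeOK TBi0 = true := by decide
theorem hcBi0 : cBi0 < 2 ^ 24 := by decide
theorem hcBi0c : codeMask (cBi0 % 4096) = cBi0 := by decide
/-- a monomial factor -/
noncomputable def mBi0 : ↥Co0 := ⟨monoT TBi0 TBi0i hTBi0 hTBi0' hTBi0c cBi0 hcBi0 hcBi0c, monoT_mem _ _ _ _ _ _ _ _⟩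
theorem real_mBi0 : Real mBi0.1 [.m TBi0i cBi0] := real_monoT TBi0 TBi0i hTBi0 hTBi0' hTBi0c cBi0 hcBi0 hcBi0c

def TBi1 : List ℕ := [22, 2, 4, 18, 13, 19, 6, 3, 11, 12, 7, 21, 9, 23, 15, 20, 1, 17, 5, 10, 14, 8, 0, 16]
def TBi1i : List ℕ := [22, 16, 1, 7, 2, 18, 6, 10, 21, 12, 19, 8, 9, 4, 20, 14, 23, 17, 3, 5, 15, 11, 0, 13]
def cBi1 : ℕ := 13689749
theorem hTBi1 : okInv TBi1 TBi1i = true := by decide
theorem hTBi1' : okInv TBi1i TBi1 = true := by decide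
theorem hTBi1c : codeOK TBi1 = true := by decide
theorem hcBi1 : cBi1 < 2 ^ 24 := by decide
theorem hcBi1c : codeMask (cBi1 % 4096) = cBi1 := by decide
/-- a monomial factor -/
noncomputable def mBi1 : ↥Co0 := ⟨monoT TBi1 TBi1i hTBi1 hTBi1' hTBi1c cBi1 hcBi1 hcBi1c, monoT_mem _ _ _ _ _ _ _ _⟩
theorem real_mBi1 : Real mBi1.1 [.m TBi1i cBi1] := real_monoT TBi1 TBi1i hTBi1 hTBi1' hTBi1c cBi1 hcBi1 hcBi1c

def TBi2 : List ℕ := [2, 23, 7, 12, 13, 17, 10, 8, 18, 19, 4, 11, 6, 9, 1, 3, 21, 15, 22, 14, 5, 0, 20, 16]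
def TBi2i : List ℕ := [21, 14, 0, 15, 10, 20, 12, 2, 7, 13, 6, 11, 3, 4, 19, 17, 23, 5, 8, 9, 22, 16, 18, 1]
def cBi2 : ℕ := 11574768
theorem hTBi2 : okInv TBi2 TBi2i = true := by decide
theorem hTBi2' : okInv TBi2i TBi2 = true := by decide
theorem hTBi2c : codeOK TBi2 = true := by decide
theorem hcBi2 : cBi2 < 2 ^ 24 := by decide
theorem hcBi2c : codeMask (cBi2 % 4096) = cBi2 := by decide
/-- a monomial factor -/
noncomputable def mBi2 : ↥Co0 := ⟨monoT TBi2 TBi2i hTBi2 hTBi2' hTBi2c cBi2 hcBi2 hcBi2c, monoT_mem _ _ _ _ _ _ _ _⟩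
theorem real_mBi2 : Real mBi2.1 [.m TBi2i cBi2] := real_monoT TBi2 TBi2i hTBi2 hTBi2' hTBi2c cBi2 hcBi2 hcBi2c

/-- the element `b⁻¹ (as a product)` -/
noncomputable def gBi : ↥Co0 := mBi0 * xiC * mBi1 * xiC * mBi2
/-- its primitives -/
def prBi : List Prim := [.m TBi0i cBi0, .x, .m TBi1i cBi1, .x, .m TBi2i cBi2]
theorem real_gBi : Real gBi.1 prBi := ((((real_mBi0).mul real_xiC).mul real_mBi1).mul real_xiC).mul real_mBi2

end Cfsg.Agent.Lib.Helper3.Co1Gens
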