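import Mathlib
import Cfsg.Prelude.Def_Spor_Conway
import Cfsg.Prelude.Def_KGroupFacts
import Cfsg.Agent.S0397
import Cfsg.Agent.S0398
import Cfsg.Agent.S0399
import Cfsg.Agent.S5594
import Cfsg.Agent.Lib.Helper14.Co0Center

/-!
# The stem extension `Co0 → Co1` and the generic "order bound ⇒ multiplier of order two" lemma
-/

set_option autoImplicit false

namespace Cfsg.Agent.Lib.Helper3.Co1Stem

open Subgroup
open scoped Pointwise commutatorElement

/-- a simple group whose order is not a prime is perfect -/
theorem commutator_eq_top_of_simple {G : Type*} [Group G] [IsSimpleGroup G]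
    (h : ¬ (Nat.card G).Prime) : commutator G = ⊤ := by
  rcases IsSimpleGroup.eq_bot_or_eq_top_of_normal (commutator G) inferInstance with hb | ht
  · exfalso
    apply h
    have hcomm : ∀ a b : G, a * b = b * a := by
      intro a b
      have : ⁅a, b⁆ ∈ commutator G := commutator_mem_commutator (mem_top a) (mem_top b)
      rw [hb, mem_bot, commutatorElement_eq_one_iff_mul_comm] at this
      exact this
    letI : CommGroup G := { (inferInstance : Group G) with mul_comm := hcomm }
    exact IsSimpleGroup.prime_card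
  · exact ht

/-- if the quotient by the centre `⟨n⟩` of order two is perfect and `⟨n⟩` has no complement,
then the centre lies in the commutator subgroup -/
theorem center_le_commutator_of_nonsplit {G : Type*} [Group G] (n : G)
    (hc : ∀ z ∈ center G, z = 1 ∨ z = n)
    (hperf : commutator (G ⧸ center G) = ⊤)
    (hns : ∀ K : Subgroup G, ¬ (zpowers n).IsComplement' K) : center G ≤ commutator G := by
  by_contra hnot
  have hn : n ∉ commutator G := by
    intro hn
    apply hnot
    intro z hz
    rcases hc z hz with rfl | rfl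
    · exact one_mem _
    · exact hn
  have hncen : n ∈ center G := by
    by_contra hn'
    apply hnot
    intro z hz
    rcases hc z hz with rfl | rfl
    · exact one_mem _
    · exact absurd hz hn'
  have hcz : center G = zpowers n := by
    apply le_antisymm
    · intro z hz
      rcases hc z hz with rfl | rfl
      · exact one_mem _
      · exact mem_zpowers _
    · rw [zpowers_le]; exact hncen
  have hsup : commutator G ⊔ center G = ⊤ := by
    have h1 : (commutator G).map (QuotientGroup.mk' (center G)) = ⊤ := by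
      rw [commutator_def, map_commutator, ← MonoidHom.range_eq_map,
        MonoidHom.range_eq_top.mpr (QuotientGroup.mk'_surjective _), ← commutator_def, hperf]
    have h2 := comap_map_eq (QuotientGroup.mk' (center G)) (commutator G)
    rw [h1, comap_top, QuotientGroup.ker_mk'] at h2
    exact h2.symm
  have hdisj : Disjoint (zpowers n) (commutator G) := by
    rw [disjoint_def]
    intro x hx1 hx2
    have hx : x ∈ center G := hcz ▸ hx1
    rcases hc x hx with rfl | rfl
    · rfl
    · exact absurd hx2 hn
  apply hns (commutator G)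
  apply isComplement'_of_disjoint_and_mul_eq_univ hdisj
  have h3 : ((zpowers n ⊔ commutator G : Subgroup G) : Set G) = (zpowers n : Set G) * (commutator G : Set G) :=
    mul_normal (zpowers n) (commutator G)
  rw [← h3, ← hcz, sup_comm, hsup, coe_top]

/-- `Co1` is perfect -/
theorem commutator_Co1 : commutator Cfsg.Spor.Co1 = ⊤ := by
  obtain ⟨hs, hcard⟩ := Cfsg.Agent.S0399.result
  haveI := hs
  apply commutator_eq_top_of_simple
  show ¬ (Nat.card (Cfsg.Co0 ⧸ center Cfsg.Co0)).Prime
  rw [hcard]
  intro hp
  have := hp.eq_one_or_self_of_dvd 2 (by norm_num)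
  omega

theorem card_Co1 : Nat.card Cfsg.Spor.Co1 = 4157776806543360000 :=
  Cfsg.Agent.S0399.result.2

/-- the centre of `Co0` lies in its commutator subgroup -/
theorem center_le_commutator : center Cfsg.Co0 ≤ commutator Cfsg.Co0 := by
  obtain ⟨n, hn, hns⟩ := Cfsg.Agent.S5594.result
  have hnn : n = Cfsg.Agent.Lib.Helper14.Co0Center.negC := by
    apply Subtype.ext
    apply Equiv.ext
    intro v
    apply Subtype.ext
    exact hn v
  subst hnn
  exact center_le_commutator_of_nonsplit _
    Cfsg.Agent.Lib.Helper14.Co0Center.center_elems commutator_Co1 hns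

/-- the natural map `Co0 → Co1` -/
noncomputable def toCo1 : Cfsg.Co0 →* Cfsg.Spor.Co1 := QuotientGroup.mk' (center Cfsg.Co0)

theorem ker_toCo1 : toCo1.ker = center Cfsg.Co0 := QuotientGroup.ker_mk' _

/-- `Co0 → Co1` is a stem extension -/
theorem isStem_toCo1 : Cfsg.IsStemExtension toCo1 := by
  refine ⟨QuotientGroup.mk'_surjective _, ?_, ?_⟩
  · rw [ker_toCo1]
  · rw [ker_toCo1]; exact center_le_commutator

instance : Finite Cfsg.Co0 := by
  apply Nat.finite_of_card_ne_zero
  rw [Cfsg.Agent.S0397.result]
  norm_num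

/-- the kernel of `Co0 → Co1` is cyclic of order two -/
theorem ker_toCo1_equiv : Nonempty (toCo1.ker ≃* Multiplicative (ZMod 2)) := by
  haveI : Fact (Nat.Prime 2) := ⟨Nat.prime_two⟩
  refine ⟨mulEquivOfPrimeCardEq (p := 2) ?_ ?_⟩
  · rw [ker_toCo1]; exact Cfsg.Agent.S0398.result
  · rw [Nat.card_eq_fintype_card]; rfl

/-- the existence half: a finite stem extension of `Co1` with kernel of order two -/
theorem exists_stem : ∃ (Γ : Type) (_ : Group Γ) (_ : Finite Γ) (σ : Γ →* Cfsg.Spor.Co1),
    Cfsg.IsStemExtension σ ∧ Nonempty (σ.ker ≃* Multiplicative (ZMod 2)) :=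
  ⟨Cfsg.Co0, inferInstance, inferInstance, toCo1, isStem_toCo1, ker_toCo1_equiv⟩

/-- generic: a stem extension with kernel of order two exists, and all finite stem extensions have
order at most `2 |G|`: the multiplier is cyclic of order two -/
theorem hasCyclic_two_of_card_le {G : Type} [Group G] [Finite G]
    (hex : ∃ (Γ : Type) (_ : Group Γ) (_ : Finite Γ) (σ : Γ →* G),
      Cfsg.IsStemExtension σ ∧ Nonempty (σ.ker ≃* Multiplicative (ZMod 2)))
    (hb : ∀ (Γ : Type) [Group Γ] [Finite Γ] (σ : Γ →* G), Cfsg.IsStemExtension σ →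
      Nat.card Γ ≤ 2 * Nat.card G) : Cfsg.HasCyclicSchurMultiplier G 2 := by
  refine ⟨hex, ?_⟩
  intro Γ _ _ σ hσ
  have h1 := hb Γ σ hσ
  have e := QuotientGroup.quotientKerEquivOfSurjective σ hσ.1
  have h2 : Nat.card Γ = Nat.card G * Nat.card σ.ker := by
    rw [← Nat.card_congr e.toEquiv]
    exact Subgroup.card_eq_card_quotient_mul_card_subgroup σ.ker
  have hG : 0 < Nat.card G := Nat.card_pos
  have hk : 0 < Nat.card σ.ker := Nat.card_pos
  have h3 : Nat.card σ.ker ≤ 2 := by
    rw [h2, mul_comm] at h1
    exact Nat.le_of_mul_le_mul_right h1 hG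
  have h4 : Nat.card σ.ker = 1 ∨ Nat.card σ.ker = 2 := by omega
  rcases h4 with h4 | h4
  · haveI : Subsingleton σ.ker := (Nat.card_eq_one_iff_unique.mp h4).1
    exact ⟨1, fun z => ⟨1, Subsingleton.elim _ _⟩⟩
  · haveI : Fact (Nat.Prime 2) := ⟨Nat.prime_two⟩
    have e2 : Multiplicative (ZMod 2) ≃* σ.ker :=
      mulEquivOfPrimeCardEq (p := 2) (by rw [Nat.card_eq_fintype_card]; rfl) h4
    exact ⟨e2.toMonoidHom, e2.surjective⟩

/-- the statement for `Co1`, reduced to the order bound for its finite stem extensions -/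
theorem hasCyclic_Co1_of_card_le
    (hb : ∀ (Γ : Type) [Group Γ] [Finite Γ] (σ : Γ →* Cfsg.Spor.Co1), Cfsg.IsStemExtension σ →
      Nat.card Γ ≤ 2 * Nat.card Cfsg.Spor.Co1) : Cfsg.HasCyclicSchurMultiplier Cfsg.Spor.Co1 2 := by
  haveI : Finite Cfsg.Spor.Co1 := by
    apply Nat.finite_of_card_ne_zero
    rw [card_Co1]; norm_num
  exact hasCyclic_two_of_card_le exists_stem hb

end Cfsg.Agent.Lib.Helper3.Co1Stem
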