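import Cfsg.Agent.Lib.Helper4.McL.LeechComp
import Cfsg.Agent.Lib.Helper14.Co0Center

/-!
# Evaluating words in explicit automorphisms of the Leech lattice

An automorphism given as a product of monomial maps (`monoT`) and the map `ξ` (`xiPerm`) acts on coordinate
lists as a list of *primitives*.  An element of `Co0` realised by a list of primitives is `1` (or `-1`) as soon
as it fixes (negates) the 38 standard generators of the lattice (helper14's `le_of_gens`): a relator check in
`Co0` is 38 list evaluations.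
-/

set_option autoImplicit false
set_option maxRecDepth 100000

namespace Cfsg.Agent.Lib.Helper3.Co1Eval

open Cfsg
open Cfsg.Agent.Lib.Helper3.Golay
open Cfsg.Agent.Lib.Helper14.LeechXi
open Cfsg.Agent.Lib.Helper14.LeechMono
open Cfsg.Agent.Lib.Helper14.Co0Center
open Cfsg.Agent.Lib.Helper4.McL

/-- a primitive map: a signed permutation given by the table of the inverse permutation and the sign mask,
or the map `ξ` -/
inductive Prim
  | m (T' : List ℕ) (c : ℕ)
  | x

/-- the members of a tetrad -/
def tetIdx : ℕ → List ℕ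
  | 0 => [0, 1, 2, 23]
  | 1 => [3, 5, 14, 17]
  | 2 => [4, 13, 16, 22]
  | 3 => [6, 7, 19, 21]
  | 4 => [8, 11, 12, 18]
  | _ => [9, 10, 15, 20]

/-- the sum over a tetrad, computed from its four members -/
def tsL2 (l : List ℤ) (t : ℕ) : ℤ := ((tetIdx t).map fun k => l.getD k 0).sum

theorem tsL2_eq (l : List ℤ) (t : ℕ) (ht : t < 6) : tsL2 l t = tsL l t := by
  have hr : List.range 24 = [0, 1, 2, 3, 4, 5, 6, 7, 8, 9, 10, 11, 12, 13, 14, 15, 16, 17, 18, 19, 20, 21, 22, 23] := by
    decide
  unfold tsL2 tsL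
  rw [hr]
  interval_cases t <;> simp [tetIdx, tetL] <;> ring

/-- the map `ξ` on lists, computed faster -/
def xiL2 (l : List ℤ) : List ℤ :=
  tabL fun j => (if tetL.getD j 0 = 0 then -1 else 1) * (l.getD j 0 - tsL2 l (tetL.getD j 0) / 2)

theorem xiL2_eq (l : List ℤ) : xiL2 l = xiL l := by
  unfold xiL2 xiL tabL
  apply List.map_congr_left
  intro j hj
  have hj' : j < 24 := List.mem_range.mp hj
  have ht : tetL.getD j 0 < 6 := by
    interval_cases j <;> decide
  rw [tsL2_eq l _ ht]

def xiOut (h0 h1 h2 h3 h4 h5 x0 x1 x2 x3 x4 x5 x6 x7 x8 x9 x10 x11 x12 x13 x14 x15 x16 x17 x18 x19 x20 x21 x22 x23 : ℤ) : List ℤ :=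
  [h0 - x0, h0 - x1, h0 - x2, x3 - h1, x4 - h2, x5 - h1, x6 - h3, x7 - h3, x8 - h4, x9 - h5, x10 - h5, x11 - h4, x12 - h4, x13 - h2, x14 - h1, x15 - h5, x16 - h2, x17 - h1, x18 - h4, x19 - h3, x20 - h5, x21 - h3, x22 - h2, h0 - x23]

/-- the map `ξ` on lists of length 24, without indexing -/
def xiL3 : List ℤ → List ℤ
  | [x0, x1, x2, x3, x4, x5, x6, x7, x8, x9, x10, x11, x12, x13, x14, x15, x16, x17, x18, x19, x20, x21, x22, x23] =>
    xiOut ((x0 + x1 + x2 + x23) / 2) ((x3 + x5 + x14 + x17) / 2) ((x4 + x13 + x16 + x22) / 2) ((x6 + x7 + x19 + x21) / 2) ((x8 + x11 + x12 + x18) / 2) ((x9 + x10 + x15 + x20) / 2) x0 x1 x2 x3 x4 x5 x6 x7 x8 x9 x10 x11 x12 x13 x14 x15 x16 x17 x18 x19 x20 x21 x22 x23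
  | l => xiL2 l

theorem xiL3_eq (l : List ℤ) : xiL3 l = xiL2 l := by
  unfold xiL3
  split
  · have hr : List.range 24 = [0, 1, 2, 3, 4, 5, 6, 7, 8, 9, 10, 11, 12, 13, 14, 15, 16, 17, 18, 19, 20, 21, 22, 23] := by
      decide
    unfold xiL2 tabL
    rw [hr]
    simp [tsL2, tetIdx, tetL, xiOut]
    repeat' constructor
    all_goals omega
  · rfl

def spGo (c : ℕ) (l : List ℤ) : List ℕ → ℕ → List ℤ
  | [], _ => []
  | t :: ts, i => (if c.testBit i then -(l.getD t 0) else l.getD t 0) :: spGo c l ts (i + 1)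

/-- the signed permutation, running through the table -/
def spL3 (T' : List ℕ) (c : ℕ) (l : List ℤ) : List ℤ := spGo c l T' 0

theorem spGo_eq (c : ℕ) (l : List ℤ) (ts : List ℕ) (i : ℕ) :
    spGo c l ts i = (List.range ts.length).map fun j =>
      if c.testBit (i + j) then -(l.getD (ts.getD j 0) 0) else l.getD (ts.getD j 0) 0 := by
  induction ts generalizing i with
  | nil => rfl
  | cons t ts ih =>
    rw [spGo, ih, List.length_cons, List.range_succ_eq_map, List.map_cons, List.map_map]
    congr 1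
    apply List.map_congr_left
    intro j _
    simp only [Function.comp, List.getD_cons_succ]
    rw [show i + 1 + j = i + (j + 1) by omega]

theorem spL3_eq (T' : List ℕ) (c : ℕ) (l : List ℤ) (h : T'.length = 24) : spL3 T' c l = spL T' c l := by
  unfold spL3 spL tabL
  rw [spGo_eq, h]
  apply List.map_congr_left
  intro j _
  rw [Nat.zero_add]

/-- the member of a list of length 24 with a given index, by bisection -/
def sel24 (x0 x1 x2 x3 x4 x5 x6 x7 x8 x9 x10 x11 x12 x13 x14 x15 x16 x17 x18 x19 x20 x21 x22 x23 : ℤ) (t : ℕ) : ℤ :=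
  if t < 24 then (if t < 12 then (if t < 6 then (if t < 3 then (if t < 1 then x0 else (if t < 2 then x1 else x2)) else (if t < 4 then x3 else (if t < 5 then x4 else x5))) else (if t < 9 then (if t < 7 then x6 else (if t < 8 then x7 else x8)) else (if t < 10 then x9 else (if t < 11 then x10 else x11)))) else (if t < 18 then (if t < 15 then (if t < 13 then x12 else (if t < 14 then x13 else x14)) else (if t < 16 then x15 else (if t < 17 then x16 else x17))) else (if t < 21 then (if t < 19 then x18 else (if t < 20 then x19 else x20)) else (if t < 22 then x21 else (if t < 23 then x22 else x23))))) else 0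

theorem sel24_eq (x0 x1 x2 x3 x4 x5 x6 x7 x8 x9 x10 x11 x12 x13 x14 x15 x16 x17 x18 x19 x20 x21 x22 x23 : ℤ) (t : ℕ) :
    sel24 x0 x1 x2 x3 x4 x5 x6 x7 x8 x9 x10 x11 x12 x13 x14 x15 x16 x17 x18 x19 x20 x21 x22 x23 t = [x0, x1, x2, x3, x4, x5, x6, x7, x8, x9, x10, x11, x12, x13, x14, x15, x16, x17, x18, x19, x20, x21, x22, x23].getD t 0 := by
  rcases Nat.lt_or_ge t 24 with h | h
  · interval_cases t <;> rfl
  · rw [List.getD_eq_default _ _ (by simpa using h)]
    unfold sel24
    rw [if_neg (by omega)]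

def spGoF (c : ℕ) (f : ℕ → ℤ) : List ℕ → ℕ → List ℤ
  | [], _ => []
  | t :: ts, i => (if c.testBit i then -(f t) else f t) :: spGoF c f ts (i + 1)

theorem spGoF_eq (c : ℕ) (f : ℕ → ℤ) (l : List ℤ) (hf : ∀ t, f t = l.getD t 0) (ts : List ℕ) (i : ℕ) :
    spGoF c f ts i = spGo c l ts i := by
  induction ts generalizing i with
  | nil => rfl
  | cons t ts ih => rw [spGoF, spGo, ih, hf]

/-- the signed permutation on lists of length 24, with fast indexing -/
def spL4 (T' : List ℕ) (c : ℕ) : List ℤ → List ℤ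
  | [x0, x1, x2, x3, x4, x5, x6, x7, x8, x9, x10, x11, x12, x13, x14, x15, x16, x17, x18, x19, x20, x21, x22, x23] => spGoF c (sel24 x0 x1 x2 x3 x4 x5 x6 x7 x8 x9 x10 x11 x12 x13 x14 x15 x16 x17 x18 x19 x20 x21 x22 x23) T' 0
  | l => spL3 T' c l

theorem spL4_eq (T' : List ℕ) (c : ℕ) (l : List ℤ) : spL4 T' c l = spL3 T' c l := by
  unfold spL4
  split
  · exact spGoF_eq c _ _ (sel24_eq _ _ _ _ _ _ _ _ _ _ _ _ _ _ _ _ _ _ _ _ _ _ _ _) T' 0
  · rfl

/-- the action of a primitive on coordinate lists -/
def Prim.ev : Prim → List ℤ → List ℤ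
  | .m T' c, l => spL4 T' c l
  | .x, l => xiL3 l

/-- the action of a product of primitives: the last primitive acts first -/
def evP : List Prim → List ℤ → List ℤ
  | [], l => l
  | p :: ps, l => p.ev (evP ps l)

theorem evP_append (ps qs : List Prim) (l : List ℤ) : evP (ps ++ qs) l = evP ps (evP qs l) := by
  induction ps with
  | nil => rfl
  | cons p ps ih =>
    show p.ev (evP (ps ++ qs) l) = p.ev (evP ps (evP qs l))
    rw [ih]

/-- `g` acts on coordinate lists as the product of the primitives `ps` -/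
def Real (g : Equiv.Perm ↥leechLattice) (ps : List Prim) : Prop :=
  ∀ (v : ↥leechLattice) (l : List ℤ), (v : GolayPt → ℤ) = vecOf l →
    ((g v : ↥leechLattice) : GolayPt → ℤ) = vecOf (evP ps l)

theorem real_one : Real 1 [] := fun _ _ hv => hv

theorem Real.mul {g h : Equiv.Perm ↥leechLattice} {ps qs : List Prim} (hg : Real g ps)
    (hh : Real h qs) : Real (g * h) (ps ++ qs) := by
  intro v l hv
  rw [Equiv.Perm.mul_apply, evP_append]
  exact hg _ _ (hh v l hv)

theorem real_monoT (T T' : List ℕ) (h : okInv T T' = true) (h' : okInv T' T = true)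
    (hcode : codeOK T = true) (c : ℕ) (hc : c < 2 ^ 24) (hcc : codeMask (c % 4096) = c) :
    Real (monoT T T' h h' hcode c hc hcc) [.m T' c] := fun v l hv => by
  show _ = vecOf (spL4 T' c l)
  rw [spL4_eq, spL3_eq T' c l (okInv_spec h).1]
  exact monoT_apply T T' h h' hcode c hc hcc v l hv

theorem real_xi : Real xiPerm [.x] := fun v l hv => by
  show _ = vecOf (xiL3 l)
  rw [xiL3_eq, xiL2_eq]
  exact xiPerm_apply' v l hv

theorem Real.pow {g : Equiv.Perm ↥leechLattice} {ps : List Prim} (hg : Real g ps) (n : ℕ) :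
    Real (g ^ n) (List.replicate n ps).flatten := by
  induction n with
  | zero => exact real_one
  | succ n ih =>
    rw [pow_succ', List.replicate_succ, List.flatten_cons]
    exact hg.mul ih

/-- the coordinate list of a vector -/
def listOf (x : GolayPt → ℤ) : List ℤ := tabL fun i => x (pt i)

theorem vecOf_listOf (x : GolayPt → ℤ) : vecOf (listOf x) = x := by
  funext p
  unfold listOf
  rw [vecOf_tabL, pt_idx]

/-! ### the standard generators of the lattice -/

/-- `4 e_i - 4 e_∞` -/
def G1 (i : GolayPt) : GolayPt → ℤ := Pi.single i 4 - Pi.single none 4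

/-- `8 e_∞` -/
def G2 : GolayPt → ℤ := Pi.single none 8

/-- twice a basis word of the code -/
def G3 (k : Fin 12) : GolayPt → ℤ := fun i => 2 * ((bvec k i).val : ℤ)

/-- `(-3, 1^23)` -/
def G4 : GolayPt → ℤ := fun i => if i = none then (-3 : ℤ) else 1

set_option maxRecDepth 100000 in
theorem G1_chk : ∀ i : GolayPt, chk (G1 i) = true := by decide +kernel

set_option maxRecDepth 100000 in
theorem G2_chk : chk G2 = true := by decide +kernel

set_option maxRecDepth 100000 in
theorem G3_chk : ∀ k : Fin 12, chk (G3 k) = true := by decide +kernel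

set_option maxRecDepth 100000 in
theorem G4_chk : chk G4 = true := by decide +kernel

/-- the check: the primitives `ps` map every standard generator `x` to `ε x` -/
def chkAll (ps : List Prim) (ε : ℤ) : Prop :=
  (∀ i : GolayPt, evP ps (listOf (G1 i)) = listOf (ε • G1 i)) ∧
    evP ps (listOf G2) = listOf (ε • G2) ∧
    (∀ k : Fin 12, evP ps (listOf (G3 k)) = listOf (ε • G3 k)) ∧
    evP ps (listOf G4) = listOf (ε • G4)

instance (ps : List Prim) (ε : ℤ) : Decidable (chkAll ps ε) := by
  unfold chkAll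
  infer_instance

/-- an element of `Co0` realised by primitives which multiply the standard generators by `ε` multiplies every
vector by `ε` -/
theorem smul_of_chkAll (g : Equiv.Perm ↥leechLattice) (hg : g ∈ Co0) (ps : List Prim)
    (hr : Real g ps) (ε : ℤ) (hchk : chkAll ps ε) (v : ↥leechLattice) :
    ((g v : ↥leechLattice) : GolayPt → ℤ) = ε • (v : GolayPt → ℤ) := by
  let M : AddSubgroup (GolayPt → ℤ) :=
    { carrier := {x | ∃ hx : x ∈ leechLattice,
        ((g ⟨x, hx⟩ : ↥leechLattice) : GolayPt → ℤ) = ε • x}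
      zero_mem' := by
        refine ⟨leechLattice.zero_mem, ?_⟩
        have h0 : (⟨0, leechLattice.zero_mem⟩ : ↥leechLattice) = 0 := rfl
        rw [h0, co0_map_zero g hg, smul_zero]
        rfl
      add_mem' := by
        rintro x y ⟨hx, hgx⟩ ⟨hy, hgy⟩
        refine ⟨leechLattice.add_mem hx hy, ?_⟩
        have h1 : (⟨x + y, leechLattice.add_mem hx hy⟩ : ↥leechLattice) = ⟨x, hx⟩ + ⟨y, hy⟩ := rfl
        rw [h1, hg.1, smul_add, ← hgx, ← hgy]
        rfl
      neg_mem' := by
        rintro x ⟨hx, hgx⟩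
        refine ⟨leechLattice.neg_mem hx, ?_⟩
        have h1 : (⟨-x, leechLattice.neg_mem hx⟩ : ↥leechLattice) = -⟨x, hx⟩ := rfl
        rw [h1, co0_map_neg g hg, smul_neg, ← hgx]
        rfl }
  have key : ∀ x : GolayPt → ℤ, chk x = true → evP ps (listOf x) = listOf (ε • x) → x ∈ M := by
    intro x hx hev
    refine ⟨chk_sound x hx, ?_⟩
    have := hr ⟨x, chk_sound x hx⟩ (listOf x) (vecOf_listOf x).symm
    rw [this, hev, vecOf_listOf]
  obtain ⟨h1, h2, h3, h4⟩ := hchk
  have hle : leechLattice ≤ M :=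
    le_of_gens M (fun i => key _ (G1_chk i) (h1 i)) (key _ G2_chk h2)
      (fun k => key _ (G3_chk k) (h3 k)) (key _ G4_chk h4)
  obtain ⟨hx, hgx⟩ := hle v.2
  exact hgx

/-- an element of `Co0` realised by primitives fixing the standard generators is the identity -/
theorem eq_one_of_chkAll (g : Equiv.Perm ↥leechLattice) (hg : g ∈ Co0) (ps : List Prim)
    (hr : Real g ps) (hchk : chkAll ps 1) : g = 1 := by
  apply Equiv.ext
  intro v
  apply Subtype.ext
  rw [smul_of_chkAll g hg ps hr 1 hchk v, one_smul]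
  rfl

/-- an element of `Co0` realised by primitives negating the standard generators is the negation -/
theorem eq_neg_of_chkAll (g : Equiv.Perm ↥leechLattice) (hg : g ∈ Co0) (ps : List Prim)
    (hr : Real g ps) (hchk : chkAll ps (-1)) : g = negPerm := by
  apply Equiv.ext
  intro v
  apply Subtype.ext
  rw [smul_of_chkAll g hg ps hr (-1) hchk v, neg_one_smul]
  rfl

/-! ### words in a family of realised generators -/

section Words

variable {α : Type} (gen : α → ↥Co0) (pr prI : α → List Prim)

/-- the primitives of a word -/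
def evW : List (α × Bool) → List Prim
  | [] => []
  | (x, true) :: w => pr x ++ evW w
  | (x, false) :: w => prI x ++ evW w

variable (hpr : ∀ x, Real (gen x).1 (pr x)) (hprI : ∀ x, Real ((gen x)⁻¹ : ↥Co0).1 (prI x))

include hpr hprI in
theorem real_lift (w : List (α × Bool)) :
    Real (FreeGroup.lift gen (FreeGroup.mk w) : ↥Co0).1 (evW pr prI w) := by
  induction w with
  | nil => exact real_one
  | cons p w ih =>
    obtain ⟨x, b⟩ := p
    have hcons : (FreeGroup.mk ((x, b) :: w) : FreeGroup α) = FreeGroup.mk [(x, b)] * FreeGroup.mk w := by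
      rw [FreeGroup.mul_mk]; rfl
    rw [hcons, map_mul]
    cases b with
    | true =>
      have h1 : FreeGroup.lift gen (FreeGroup.mk [(x, true)]) = gen x := FreeGroup.lift_apply_of
      rw [h1]
      exact (hpr x).mul ih
    | false =>
      have h1 : FreeGroup.lift gen (FreeGroup.mk [(x, false)]) = (gen x)⁻¹ := by
        have : (FreeGroup.mk [(x, false)] : FreeGroup α) = (FreeGroup.of x)⁻¹ := rfl
        rw [this, map_inv, FreeGroup.lift_apply_of]
      rw [h1]
      exact (hprI x).mul ih

include hpr hprI in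
/-- a word whose primitives fix the standard generators is trivial in `Co0` -/
theorem lift_eq_one (w : List (α × Bool)) (h : chkAll (evW pr prI w) 1) :
    FreeGroup.lift gen (FreeGroup.mk w) = 1 :=
  Subtype.ext (eq_one_of_chkAll _ (FreeGroup.lift gen (FreeGroup.mk w)).2 _ (real_lift gen pr prI hpr hprI w) h)

include hpr hprI in
/-- a word whose primitives negate the standard generators is the central involution of `Co0` -/
theorem lift_eq_neg (w : List (α × Bool)) (h : chkAll (evW pr prI w) (-1)) :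
    FreeGroup.lift gen (FreeGroup.mk w) = negC :=
  Subtype.ext (eq_neg_of_chkAll _ (FreeGroup.lift gen (FreeGroup.mk w)).2 _ (real_lift gen pr prI hpr hprI w) h)

end Words

/-- the inverse of a realised element of finite order is realised by a power -/
theorem real_inv_of_pow (g : ↥Co0) (ps : List Prim) (hg : Real g.1 ps) (n : ℕ)
    (hn : chkAll (List.replicate (n + 1) ps).flatten 1) :
    Real (g⁻¹ : ↥Co0).1 (List.replicate n ps).flatten := by
  have h1 : (g.1) ^ (n + 1) = 1 := eq_one_of_chkAll _ (Co0.pow_mem g.2 _) _ (hg.pow (n + 1)) hn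
  have h2 : (g⁻¹ : ↥Co0).1 = g.1 ^ n := by
    show (g.1)⁻¹ = g.1 ^ n
    rw [inv_eq_iff_mul_eq_one, ← pow_succ', h1]
  rw [h2]
  exact hg.pow n

/-- the inverse of a realised element, given a realised right inverse -/
theorem real_inv_of_mul (g h : ↥Co0) (ps qs : List Prim) (hg : Real g.1 ps) (hh : Real h.1 qs)
    (hchk : chkAll (ps ++ qs) 1) : Real (g⁻¹ : ↥Co0).1 qs := by
  have h1 : g.1 * h.1 = 1 := eq_one_of_chkAll _ (Co0.mul_mem g.2 h.2) _ (hg.mul hh) hchk
  have h2 : (g⁻¹ : ↥Co0).1 = h.1 := by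
    show (g.1)⁻¹ = h.1
    rw [inv_eq_iff_mul_eq_one, h1]
  rw [h2]
  exact hh

end Cfsg.Agent.Lib.Helper3.Co1Eval
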