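import Cfsg.Agent.Lib.Helper3.Co1.Eval

/-!
# Equality of two realised elements of `Co0`
-/

set_option autoImplicit false

namespace Cfsg.Agent.Lib.Helper3.Co1Eval

open Cfsg
open Cfsg.Agent.Lib.Helper3.Golay
open Cfsg.Agent.Lib.Helper14.LeechXi
open Cfsg.Agent.Lib.Helper14.LeechMono
open Cfsg.Agent.Lib.Helper14.Co0Center
open Cfsg.Agent.Lib.Helper4.McL

/-- the check: the two lists of primitives agree on the standard generators -/
def chkEq (ps qs : List Prim) : Prop :=
  (∀ i : GolayPt, evP ps (listOf (G1 i)) = evP qs (listOf (G1 i))) ∧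
    evP ps (listOf G2) = evP qs (listOf G2) ∧
    (∀ k : Fin 12, evP ps (listOf (G3 k)) = evP qs (listOf (G3 k))) ∧
    evP ps (listOf G4) = evP qs (listOf G4)

instance (ps qs : List Prim) : Decidable (chkEq ps qs) := by
  unfold chkEq
  infer_instance

/-- two elements of `Co0` realised by primitives which agree on the standard generators are equal -/
theorem eq_of_chkEq (g h : Equiv.Perm ↥leechLattice) (hg : g ∈ Co0) (hh : h ∈ Co0) (ps qs : List Prim)
    (hr : Real g ps) (hs : Real h qs) (hchk : chkEq ps qs) : g = h := by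
  let M : AddSubgroup (GolayPt → ℤ) :=
    { carrier := {x | ∃ hx : x ∈ leechLattice, g ⟨x, hx⟩ = h ⟨x, hx⟩}
      zero_mem' := by
        refine ⟨leechLattice.zero_mem, ?_⟩
        have h0 : (⟨0, leechLattice.zero_mem⟩ : ↥leechLattice) = 0 := rfl
        rw [h0, co0_map_zero g hg, co0_map_zero h hh]
      add_mem' := by
        rintro x y ⟨hx, hgx⟩ ⟨hy, hgy⟩
        refine ⟨leechLattice.add_mem hx hy, ?_⟩
        have h1 : (⟨x + y, leechLattice.add_mem hx hy⟩ : ↥leechLattice) = ⟨x, hx⟩ + ⟨y, hy⟩ := rfl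
        rw [h1, hg.1, hh.1, hgx, hgy]
      neg_mem' := by
        rintro x ⟨hx, hgx⟩
        refine ⟨leechLattice.neg_mem hx, ?_⟩
        have h1 : (⟨-x, leechLattice.neg_mem hx⟩ : ↥leechLattice) = -⟨x, hx⟩ := rfl
        rw [h1, co0_map_neg g hg, co0_map_neg h hh, hgx] }
  have key : ∀ x : GolayPt → ℤ, chk x = true → evP ps (listOf x) = evP qs (listOf x) → x ∈ M := by
    intro x hx hev
    refine ⟨chk_sound x hx, ?_⟩
    apply Subtype.ext
    have h1 := hr ⟨x, chk_sound x hx⟩ (listOf x) (vecOf_listOf x).symm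
    have h2 := hs ⟨x, chk_sound x hx⟩ (listOf x) (vecOf_listOf x).symm
    rw [h1, h2, hev]
  obtain ⟨h1, h2, h3, h4⟩ := hchk
  have hle : leechLattice ≤ M :=
    le_of_gens M (fun i => key _ (G1_chk i) (h1 i)) (key _ G2_chk h2)
      (fun k => key _ (G3_chk k) (h3 k)) (key _ G4_chk h4)
  apply Equiv.ext
  intro v
  obtain ⟨hx, hgx⟩ := hle v.2
  exact hgx

end Cfsg.Agent.Lib.Helper3.Co1Eval
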