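import Mathlib
import Cfsg.Prelude.Def_Spor_Conway
import Cfsg.Agent.S0399

/-!
# A generation criterion for `Co0`: a subgroup containing the stabiliser of the minimal vector
`V0 = leechU` and an element moving `V0` outside `{V0, -V0}` is everything.
-/

set_option autoImplicit false

namespace Cfsg.Agent.Lib.Helper3.Co1Gen

open Cfsg MulAction Cfsg.Agent.S0399
open Cfsg.Agent.S1584 (V0)

theorem V0_eq_leechU : V0 = Cfsg.Spor.leechU := by
  apply Subtype.ext
  funext p
  show Cfsg.Agent.Lib.Helper14.LeechPairs.v0 p = Cfsg.Spor.vecU p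
  unfold Cfsg.Agent.Lib.Helper14.LeechPairs.v0 Cfsg.Spor.vecU
  rcases p with _ | p
  · simp
  · by_cases hp : p = 0
    · subst hp; simp
    · have : (some p : GolayPt) ≠ some 0 := fun h => hp (Option.some.inj h)
      simp [hp]

/-- a subgroup of `Co0` containing the stabiliser of `V0` and an element moving `V0` outside
`{V0, -V0}` is the whole group -/
theorem eq_top_of_stab_le (K : Subgroup ↥Co0) (hK : ∀ g : ↥Co0, g • V0 = V0 → g ∈ K)
    (k : ↥Co0) (hk : k ∈ K) (h1 : k • V0 ≠ V0) (h2 : k • V0 ≠ -V0) : K = ⊤ := by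
  classical
  haveI : IsPretransitive ↥Co0 ↥MV := ⟨trans_MV⟩
  haveI := Fintype.ofFinite ↥MV
  have hstab : stabilizer ↥Co0 x0 ≤ K := by
    intro g hg
    apply hK
    exact congrArg Subtype.val (mem_stabilizer_iff.mp hg)
  set O : Set ↥MV := orbit K x0 with hO
  have hmemO : ∀ y, y ∈ O ↔ ∃ n ∈ K, n • x0 = y := by
    intro y
    constructor
    · rintro ⟨n, rfl⟩
      exact ⟨n.1, n.2, rfl⟩
    · rintro ⟨n, hn, rfl⟩
      exact ⟨⟨n, hn⟩, rfl⟩
  have hx0O : x0 ∈ O := mem_orbit_self x0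
  have hblock : IsBlock ↥Co0 O := IsBlock.of_orbit hstab
  have hdvd : O.ncard ∣ Nat.card ↥MV := hblock.ncard_dvd_card ⟨x0, hx0O⟩
  have hinv : ∀ g : ↥Co0, g • x0 = x0 → ∀ y ∈ O, g • y ∈ O := by
    intro g hg y hy
    obtain ⟨n, hn, rfl⟩ := (hmemO y).mp hy
    rw [hmemO]
    refine ⟨g * n, K.mul_mem (hK g (congrArg Subtype.val hg)) hn, ?_⟩
    rw [mul_smul]
  set J : Finset (Fin 7) := Finset.univ.filter (fun i => ∃ y ∈ O, cls y = i) with hJ
  have hOJ : ∀ y, y ∈ O ↔ cls y ∈ J := by
    intro y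
    rw [hJ, Finset.mem_filter]
    constructor
    · intro hy
      exact ⟨Finset.mem_univ _, y, hy, rfl⟩
    · rintro ⟨-, y', hy', hff⟩
      obtain ⟨g, hg, rfl⟩ := cls_trans y' y hff
      exact hinv g hg y' hy'
  have e1 : O.ncard = (Finset.univ.filter (fun y => cls y ∈ J)).card := by
    rw [← Set.ncard_coe_finset]
    congr 1
    ext y
    simp [hOJ]
  have e2 : ∀ i, {y | cls y = i}.ncard = (Finset.univ.filter (fun y => cls y = i)).card := by
    intro i
    rw [← Set.ncard_coe_finset]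
    congr 1
    ext y
    simp
  have hsum : O.ncard = ∑ i ∈ J, {y | cls y = i}.ncard := by
    rw [e1, Finset.card_eq_sum_card_fiberwise (f := cls)
      (s := Finset.univ.filter (fun y => cls y ∈ J)) (t := J)
      (fun y hy => (Finset.mem_filter.mp (Finset.mem_coe.mp hy)).2)]
    refine Finset.sum_congr rfl fun i hi => ?_
    rw [e2, Finset.filter_filter]
    congr 1
    ext y
    simp only [Finset.mem_filter, Finset.mem_univ, true_and]
    constructor
    · rintro ⟨-, h⟩; exact h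
    · intro h; exact ⟨h ▸ hi, h⟩
  rw [hsum, Finset.sum_congr rfl (fun i _ => ncard_cls i), card_MV] at hdvd
  have hJ0 : (0 : Fin 7) ∈ J := by
    have := (hOJ x0).mp hx0O
    rwa [cls_x0] at this
  have hkO : k • x0 ∈ O := (hmemO _).mpr ⟨k, hk, rfl⟩
  have hkJ : cls (k • x0) ∈ J := (hOJ _).mp hkO
  have hk0 : cls (k • x0) ≠ 0 := by
    intro h
    apply h1
    exact congrArg Subtype.val (eq_x0_of_cval _ ((cls_eq_iff _).1.mp h))
  have hk6 : cls (k • x0) ≠ 6 := by
    intro h
    apply h2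
    exact eq_neg_of_cval _ ((cls_eq_iff _).2.2.2.2.2.2.mp h)
  rcases arith J hJ0 hdvd with h | h | h
  · rw [h, Finset.mem_singleton] at hkJ
    exact absurd hkJ hk0
  · rw [h, Finset.mem_insert, Finset.mem_singleton] at hkJ
    rcases hkJ with hkJ | hkJ
    · exact absurd hkJ hk0
    · exact absurd hkJ hk6
  · rw [eq_top_iff]
    intro g _
    have hg : g • x0 ∈ O := (hOJ _).mpr (h ▸ Finset.mem_univ _)
    obtain ⟨n, hn, hng⟩ := (hmemO _).mp hg
    have hfix : (n⁻¹ * g) • V0 = V0 := by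
      have := congrArg Subtype.val hng
      change n • V0 = g • V0 at this
      rw [mul_smul, ← this, inv_smul_smul]
    have := K.mul_mem hn (hK _ hfix)
    rwa [mul_inv_cancel_left] at this

end Cfsg.Agent.Lib.Helper3.Co1Gen
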