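import Cfsg.Agent.Lib.Helper3.Co1.Stem
import Cfsg.Agent.Lib.Helper3.Cover.Surj

/-!
# `M(Co₁) = 2` from a covering presentation of small order

If `Co1` is a homomorphic image of the presented group `D.P` of a covering datum `D` whose covering group `D.E` is
finite of order at most `2 |Co1|`, then the Schur multiplier of `Co1` is cyclic of order two.
-/

set_option autoImplicit false

namespace Cfsg.Agent.Lib.Helper3.Co1Stem

open Cfsg.Agent.Lib.Helper3.Cover

theorem hasCyclic_Co1_of_cover {α : Type} [DecidableEq α] [Fintype α] (D : CoverData α)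
    (π : D.P →* Cfsg.Spor.Co1) (hπ : Function.Surjective π) (hfin : Finite D.E)
    (hcard : Nat.card D.E ≤ 8315553613086720000) : Cfsg.HasCyclicSchurMultiplier Cfsg.Spor.Co1 2 := by
  apply hasCyclic_Co1_of_card_le
  intro Γ _ _ σ hσ
  calc Nat.card Γ ≤ Nat.card D.E := CoverData.card_le_of_stem D π σ hπ hσ
    _ ≤ 8315553613086720000 := hcard
    _ = 2 * Nat.card Cfsg.Spor.Co1 := by rw [card_Co1]

end Cfsg.Agent.Lib.Helper3.Co1Stem
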